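import Cfsg.Agent.Lib.Helper35.RuP4060.PData

set_option Elab.async false

namespace Cfsg.Agent.Lib.Helper35.RuP4060

open Cfsg.Agent.Lib.Helper35

theorem rc0 : allBelow (fun k => fr (Nat.add 0 k)) 192 = true := by decide +kernel
theorem ru0 : ∀ i, i < 192 → fr i = true := below_step fr 0 192 192 (below_zero fr) rc0 rfl
theorem rc1 : allBelow (fun k => fr (Nat.add 192 k)) 192 = true := by decide +kernel
theorem ru1 : ∀ i, i < 384 → fr i = true := below_step fr 192 192 384 ru0 rc1 rfl
theorem rc2 : allBelow (fun k => fr (Nat.add 384 k)) 192 = true := by decide +kernel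
theorem ru2 : ∀ i, i < 576 → fr i = true := below_step fr 384 192 576 ru1 rc2 rfl
theorem rc3 : allBelow (fun k => fr (Nat.add 576 k)) 192 = true := by decide +kernel
theorem ru3 : ∀ i, i < 768 → fr i = true := below_step fr 576 192 768 ru2 rc3 rfl
theorem rc4 : allBelow (fun k => fr (Nat.add 768 k)) 192 = true := by decide +kernel
theorem ru4 : ∀ i, i < 960 → fr i = true := below_step fr 768 192 960 ru3 rc4 rfl
theorem rc5 : allBelow (fun k => fr (Nat.add 960 k)) 192 = true := by decide +kernel
theorem ru5 : ∀ i, i < 1152 → fr i = true := below_step fr 960 192 1152 ru4 rc5 rfl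
theorem rc6 : allBelow (fun k => fr (Nat.add 1152 k)) 192 = true := by decide +kernel
theorem ru6 : ∀ i, i < 1344 → fr i = true := below_step fr 1152 192 1344 ru5 rc6 rfl
theorem rc7 : allBelow (fun k => fr (Nat.add 1344 k)) 192 = true := by decide +kernel
theorem ru7 : ∀ i, i < 1536 → fr i = true := below_step fr 1344 192 1536 ru6 rc7 rfl
theorem rc8 : allBelow (fun k => fr (Nat.add 1536 k)) 192 = true := by decide +kernel
theorem ru8 : ∀ i, i < 1728 → fr i = true := below_step fr 1536 192 1728 ru7 rc8 rfl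
theorem rc9 : allBelow (fun k => fr (Nat.add 1728 k)) 192 = true := by decide +kernel
theorem ru9 : ∀ i, i < 1920 → fr i = true := below_step fr 1728 192 1920 ru8 rc9 rfl
theorem rc10 : allBelow (fun k => fr (Nat.add 1920 k)) 192 = true := by decide +kernel
theorem ru10 : ∀ i, i < 2112 → fr i = true := below_step fr 1920 192 2112 ru9 rc10 rfl
theorem rc11 : allBelow (fun k => fr (Nat.add 2112 k)) 192 = true := by decide +kernel
theorem ru11 : ∀ i, i < 2304 → fr i = true := below_step fr 2112 192 2304 ru10 rc11 rfl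
theorem rc12 : allBelow (fun k => fr (Nat.add 2304 k)) 192 = true := by decide +kernel
theorem ru12 : ∀ i, i < 2496 → fr i = true := below_step fr 2304 192 2496 ru11 rc12 rfl
theorem rc13 : allBelow (fun k => fr (Nat.add 2496 k)) 192 = true := by decide +kernel
theorem ru13 : ∀ i, i < 2688 → fr i = true := below_step fr 2496 192 2688 ru12 rc13 rfl
theorem rc14 : allBelow (fun k => fr (Nat.add 2688 k)) 192 = true := by decide +kernel
theorem ru14 : ∀ i, i < 2880 → fr i = true := below_step fr 2688 192 2880 ru13 rc14 rfl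
theorem rc15 : allBelow (fun k => fr (Nat.add 2880 k)) 192 = true := by decide +kernel
theorem ru15 : ∀ i, i < 3072 → fr i = true := below_step fr 2880 192 3072 ru14 rc15 rfl
theorem rc16 : allBelow (fun k => fr (Nat.add 3072 k)) 192 = true := by decide +kernel
theorem ru16 : ∀ i, i < 3264 → fr i = true := below_step fr 3072 192 3264 ru15 rc16 rfl
theorem rc17 : allBelow (fun k => fr (Nat.add 3264 k)) 192 = true := by decide +kernel
theorem ru17 : ∀ i, i < 3456 → fr i = true := below_step fr 3264 192 3456 ru16 rc17 rfl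
theorem rc18 : allBelow (fun k => fr (Nat.add 3456 k)) 192 = true := by decide +kernel
theorem ru18 : ∀ i, i < 3648 → fr i = true := below_step fr 3456 192 3648 ru17 rc18 rfl
theorem rc19 : allBelow (fun k => fr (Nat.add 3648 k)) 192 = true := by decide +kernel
theorem ru19 : ∀ i, i < 3840 → fr i = true := below_step fr 3648 192 3840 ru18 rc19 rfl
theorem rc20 : allBelow (fun k => fr (Nat.add 3840 k)) 192 = true := by decide +kernel
theorem ru20 : ∀ i, i < 4032 → fr i = true := below_step fr 3840 192 4032 ru19 rc20 rfl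
theorem rc21 : allBelow (fun k => fr (Nat.add 4032 k)) 28 = true := by decide +kernel
theorem ru21 : ∀ i, i < 4060 → fr i = true := below_step fr 4032 28 4060 ru20 rc21 rfl
theorem c0c0 : allBelow (fun k => fc0 (Nat.add 0 k)) 4060 = true := by decide +kernel
theorem c0u0 : ∀ i, i < 4060 → fc0 i = true := below_step fc0 0 4060 4060 (below_zero fc0) c0c0 rfl
theorem c1c0 : allBelow (fun k => fc1 (Nat.add 0 k)) 4060 = true := by decide +kernel
theorem c1u0 : ∀ i, i < 4060 → fc1 i = true := below_step fc1 0 4060 4060 (below_zero fc1) c1c0 rfl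
theorem c2c0 : allBelow (fun k => fc2 (Nat.add 0 k)) 4060 = true := by decide +kernel
theorem c2u0 : ∀ i, i < 4060 → fc2 i = true := below_step fc2 0 4060 4060 (below_zero fc2) c2c0 rfl
theorem c3c0 : allBelow (fun k => fc3 (Nat.add 0 k)) 4060 = true := by decide +kernel
theorem c3u0 : ∀ i, i < 4060 → fc3 i = true := below_step fc3 0 4060 4060 (below_zero fc3) c3c0 rfl
theorem c4c0 : allBelow (fun k => fc4 (Nat.add 0 k)) 4060 = true := by decide +kernel
theorem c4u0 : ∀ i, i < 4060 → fc4 i = true := below_step fc4 0 4060 4060 (below_zero fc4) c4c0 rfl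
theorem c5c0 : allBelow (fun k => fc5 (Nat.add 0 k)) 4060 = true := by decide +kernel
theorem c5u0 : ∀ i, i < 4060 → fc5 i = true := below_step fc5 0 4060 4060 (below_zero fc5) c5c0 rfl
theorem c6c0 : allBelow (fun k => fc6 (Nat.add 0 k)) 4060 = true := by decide +kernel
theorem c6u0 : ∀ i, i < 4060 → fc6 i = true := below_step fc6 0 4060 4060 (below_zero fc6) c6c0 rfl
theorem c7c0 : allBelow (fun k => fc7 (Nat.add 0 k)) 4060 = true := by decide +kernel
theorem c7u0 : ∀ i, i < 4060 → fc7 i = true := below_step fc7 0 4060 4060 (below_zero fc7) c7c0 rfl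
theorem c8c0 : allBelow (fun k => fc8 (Nat.add 0 k)) 4060 = true := by decide +kernel
theorem c8u0 : ∀ i, i < 4060 → fc8 i = true := below_step fc8 0 4060 4060 (below_zero fc8) c8c0 rfl
theorem tc0 : allBelow (fun k => ft (Nat.add (Nat.succ 0) k)) 4059 = true := by decide +kernel
theorem tu0 : ∀ v, 1 ≤ v → v ≤ 4059 → ft v = true := slots_step ft 0 4059 4059 (slots_zero ft) tc0 rfl
theorem oc0 : allBelow (fun k => fo (Nat.add 0 k)) 4060 = true := by decide +kernel
theorem ou0 : ∀ i, i < 4060 → fo i = true := below_step fo 0 4060 4060 (below_zero fo) oc0 rfl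
theorem l0z : countBelow fl0 0 = 0 := rfl
theorem l0k0 : countBelow (fun k => fl0 (Nat.add 0 k)) 4060 = 1 := by decide +kernel
theorem l0n0 : countBelow fl0 4060 = 1 := countBelow_step fl0 0 4060 4060 0 1 1 l0z l0k0 rfl rfl
theorem l1z : countBelow fl1 0 = 0 := rfl
theorem l1k0 : countBelow (fun k => fl1 (Nat.add 0 k)) 4060 = 1755 := by decide +kernel
theorem l1n0 : countBelow fl1 4060 = 1755 := countBelow_step fl1 0 4060 4060 0 1755 1755 l1z l1k0 rfl rfl
theorem l2z : countBelow fl2 0 = 0 := rfl
theorem l2k0 : countBelow (fun k => fl2 (Nat.add 0 k)) 4060 = 2304 := by decide +kernel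
theorem l2n0 : countBelow fl2 4060 = 2304 := countBelow_step fl2 0 4060 4060 0 2304 2304 l2z l2k0 rfl rfl

end Cfsg.Agent.Lib.Helper35.RuP4060
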